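import Mathlib

/-!
Shintani descent for an automorphism `σ` of a group and its fixed point subgroups.
-/

set_option autoImplicit false

namespace CfsgLib.Shintani

variable {X : Type*} [Group X] (σ : MulAut X)

theorem mem_fix {τ : MulAut X} {u : X} :
    u ∈ (MulEquiv.toMonoidHom τ).eqLocus (MonoidHom.id X) ↔ τ u = u := Iff.rfl

theorem pow_succ_apply (i : ℕ) (u : X) : (σ ^ (i + 1)) u = σ ((σ ^ i) u) := by
  rw [pow_succ', MulAut.mul_apply]

theorem pow_apply_comm (i : ℕ) (u : X) : (σ ^ i) (σ u) = σ ((σ ^ i) u) := by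
  rw [← MulAut.mul_apply, ← MulAut.mul_apply, ← pow_succ, ← pow_succ']

theorem pow_apply_fixed {u : X} (h : σ u = u) (i : ℕ) : (σ ^ i) u = u := by
  induction i with
  | zero => simp
  | succ i ih => rw [pow_succ_apply, ih, h]

theorem pow_pow_apply_fixed {u : X} (d e : ℕ) (h : σ u = u) : ((σ ^ d) ^ e) u = u :=
  pow_apply_fixed _ (pow_apply_fixed σ h d) e

variable {σ}

theorem norm_eq {g a : X} (ha : g = a * (σ a)⁻¹) (d : ℕ) :
    ((List.range d).map (fun i => (σ ^ i) g)).prod = a * ((σ ^ d) a)⁻¹ := by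
  induction d with
  | zero => simp
  | succ d ih =>
    rw [List.range_succ, List.map_append, List.prod_append, ih, List.map_singleton,
      List.prod_singleton, ha, map_mul, map_inv, pow_apply_comm, ← pow_succ_apply, mul_assoc,
      inv_mul_cancel_left]

/-- The descended element is fixed by `σ`. -/
theorem descent_fixed {g a : X} {e : ℕ} (hg : (σ ^ e) g = g) (ha : g = a * (σ a)⁻¹) :
    σ (((σ ^ e) a)⁻¹ * a) = ((σ ^ e) a)⁻¹ * a := by
  rw [ha, map_mul, map_inv, pow_apply_comm] at hg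
  have h := congrArg (fun u => ((σ ^ e) a)⁻¹ * u * σ a) hg
  simp only [inv_mul_cancel_left, mul_assoc, inv_mul_cancel, mul_one] at h
  rw [map_mul, map_inv]
  exact h

theorem pow_apply_eq {a : X} {e : ℕ} :
    (σ ^ e) a = a * (((σ ^ e) a)⁻¹ * a)⁻¹ := by
  rw [mul_inv_rev, inv_inv, mul_inv_cancel_left]

theorem conj_iff {g g' a b : X} {e : ℕ} (ha : g = a * (σ a)⁻¹) (hb : g' = b * (σ b)⁻¹) :
    (∃ k, (σ ^ e) k = k ∧ g' = k * g * (σ k)⁻¹) ↔
      ∃ h, σ h = h ∧ ((σ ^ e) b)⁻¹ * b = h * (((σ ^ e) a)⁻¹ * a) * h⁻¹ := by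
  constructor
  · rintro ⟨k, hk, he⟩
    refine ⟨b⁻¹ * (k * a), ?_, ?_⟩
    · rw [hb, ha] at he
      rw [map_mul, map_mul, map_inv]
      have h := congrArg (fun u => b⁻¹ * u * (σ k * σ a)) he
      simp only [mul_assoc, inv_mul_cancel_left, inv_mul_cancel, mul_one] at h
      exact h
    · have hfix : σ (b⁻¹ * (k * a)) = b⁻¹ * (k * a) := by
        rw [hb, ha] at he
        rw [map_mul, map_mul, map_inv]
        have h := congrArg (fun u => b⁻¹ * u * (σ k * σ a)) he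
        simp only [mul_assoc, inv_mul_cancel_left, inv_mul_cancel, mul_one] at h
        exact h
      have h2 := pow_apply_fixed σ hfix e
      rw [map_mul, map_mul, map_inv, hk] at h2
      calc ((σ ^ e) b)⁻¹ * b
          = ((σ ^ e) b)⁻¹ * (k * (σ ^ e) a) * (((σ ^ e) a)⁻¹ * a) * (b⁻¹ * (k * a))⁻¹ := by group
        _ = _ := by rw [h2]
  · rintro ⟨h, hh, he⟩
    refine ⟨b * h * a⁻¹, ?_, ?_⟩
    · rw [map_mul, map_mul, map_inv, pow_apply_fixed σ hh e]
      have h1 := congrArg (fun u => (σ ^ e) b * u * h * a⁻¹) he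
      simp only [mul_assoc, mul_inv_cancel_left, inv_mul_cancel_left, mul_inv_cancel, mul_one] at h1
      simpa [mul_assoc] using h1.symm
    · rw [hb, ha, map_mul, map_mul, map_inv, hh]
      group

theorem centralizer_iff {g a : X} {e : ℕ} (ha : g = a * (σ a)⁻¹) (k : X) :
    ((σ ^ e) k = k ∧ k * g * (σ k)⁻¹ = g) ↔
      (σ (a⁻¹ * k * a) = a⁻¹ * k * a ∧
        (a⁻¹ * k * a) * (((σ ^ e) a)⁻¹ * a) = (((σ ^ e) a)⁻¹ * a) * (a⁻¹ * k * a)) := by
  have key : k * g * (σ k)⁻¹ = g ↔ σ (a⁻¹ * k * a) = a⁻¹ * k * a := by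
    rw [ha, map_mul, map_mul, map_inv]
    constructor <;> intro h
    · have := congrArg (fun u => a⁻¹ * u * (σ k * σ a)) h
      simp only [mul_assoc, inv_mul_cancel_left, inv_mul_cancel, mul_one] at this
      simpa [mul_assoc] using this.symm
    · have := congrArg (fun u => a * u * (σ a)⁻¹ * (σ k)⁻¹) h
      simp only [mul_assoc, mul_inv_cancel_left, mul_inv_cancel, mul_one] at this
      simpa [mul_assoc] using this.symm
  rw [key]
  constructor
  · rintro ⟨hk, hh⟩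
    refine ⟨hh, ?_⟩
    have h2 := pow_apply_fixed σ hh e
    rw [map_mul, map_mul, map_inv, hk] at h2
    conv_lhs => rw [← h2]
    group
  · rintro ⟨hh, hx⟩
    refine ⟨?_, hh⟩
    have h2 := pow_apply_fixed σ hh e
    rw [map_mul, map_mul, map_inv] at h2
    have h3 := congrArg (fun u => (σ ^ e) a * u * ((σ ^ e) a)⁻¹) h2
    simp only [mul_assoc, mul_inv_cancel_left, mul_inv_cancel, mul_one] at h3
    rw [h3]
    have h4 := congrArg (fun u => (σ ^ e) a * u * a⁻¹) hx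
    simp only [mul_assoc, mul_inv_cancel_left, mul_inv_cancel, mul_one] at h4
    simpa [mul_assoc] using h4

theorem pow_descent {g a : X} {e : ℕ} (hg : (σ ^ e) g = g) (ha : g = a * (σ a)⁻¹) (d : ℕ) :
    ((σ ^ d) ^ e) a = a * ((((σ ^ e) a)⁻¹ * a) ^ d)⁻¹ := by
  rw [← pow_mul, mul_comm, pow_mul]
  have hx := descent_fixed hg ha
  have key := pow_apply_eq (σ := σ) (a := a) (e := e)
  generalize ((σ ^ e) a)⁻¹ * a = x at hx key ⊢
  induction d with
  | zero => simp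
  | succ d ih =>
    rw [pow_succ_apply, ih, map_mul, map_inv, map_pow, pow_apply_fixed σ hx e, key, mul_assoc,
      ← mul_inv_rev, ← pow_succ]

/-- Equal fibre counts on both sides of the descent. -/
theorem card_fixed_on_cosets {g a : X} {e : ℕ} (hg : (σ ^ e) g = g) (ha : g = a * (σ a)⁻¹)
    (Y : Subgroup X) (hY : ∀ y : X, y ∈ Y ↔ σ y ∈ Y)
    (hYL : ∀ y ∈ Y, ∃ c ∈ Y, y = c * (σ c)⁻¹)
    (hYLe : ∀ y ∈ Y, ∃ c ∈ Y, y = c * ((σ ^ e) c)⁻¹) :
    Nat.card {k : X // (σ ^ e) k = k ∧ k⁻¹ * g * σ k ∈ Y} * Nat.card {u : X // u ∈ Y ∧ σ u = u} =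
      Nat.card {h : X // σ h = h ∧ h⁻¹ * (((σ ^ e) a)⁻¹ * a) * h ∈ Y} *
        Nat.card {u : X // u ∈ Y ∧ (σ ^ e) u = u} := by
  classical
  set x := ((σ ^ e) a)⁻¹ * a with hx
  have hYe : ∀ i, ∀ c ∈ Y, (σ ^ i) c ∈ Y := by
    intro i
    induction i with
    | zero => simp
    | succ i ih => intro c hc; rw [pow_succ_apply]; exact (hY _).mp (ih c hc)
  choose cK hcKY hcK using fun k : {k : X // (σ ^ e) k = k ∧ k⁻¹ * g * σ k ∈ Y} => hYL _ k.2.2
  choose cH hcHY hcH using fun h : {h : X // σ h = h ∧ h⁻¹ * x * h ∈ Y} =>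
    hYLe _ (inv_mem h.2.2)
  let S := {p : X × X // (σ ^ e) p.1 = p.1 ∧ p.2 ∈ Y ∧ p.1⁻¹ * g * σ p.1 = p.2 * (σ p.2)⁻¹}
  let T := {p : X × X // σ p.1 = p.1 ∧ p.2 ∈ Y ∧ ((σ ^ e) p.2)⁻¹ * p.2 = p.1⁻¹ * x * p.1}
  have eS : {k : X // (σ ^ e) k = k ∧ k⁻¹ * g * σ k ∈ Y} × {u : X // u ∈ Y ∧ σ u = u} ≃ S :=
    { toFun := fun p => ⟨(p.1.1, cK p.1 * p.2.1), p.1.2.1, mul_mem (hcKY p.1) p.2.2.1, by
        show _ = cK p.1 * p.2.1 * (σ (cK p.1 * p.2.1))⁻¹
        rw [map_mul, p.2.2.2]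
        exact (hcK p.1).trans (by group)⟩
      invFun := fun p =>
        (⟨p.1.1, p.2.1, p.2.2.2 ▸ mul_mem p.2.2.1 (inv_mem ((hY _).mp p.2.2.1))⟩,
          ⟨(cK ⟨p.1.1, p.2.1, p.2.2.2 ▸ mul_mem p.2.2.1 (inv_mem ((hY _).mp p.2.2.1))⟩)⁻¹ * p.1.2,
            mul_mem (inv_mem (hcKY _)) p.2.2.1, by
              have h1 := p.2.2.2.symm.trans
                (hcK ⟨p.1.1, p.2.1, p.2.2.2 ▸ mul_mem p.2.2.1 (inv_mem ((hY _).mp p.2.2.1))⟩)
              set c := cK ⟨p.1.1, p.2.1, p.2.2.2 ▸ mul_mem p.2.2.1 (inv_mem ((hY _).mp p.2.2.1))⟩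
              have h2 := congrArg (fun u => c⁻¹ * u * σ p.1.2) h1
              simp only [mul_assoc, inv_mul_cancel_left, inv_mul_cancel, mul_one] at h2
              rw [map_mul, map_inv]
              exact h2.symm⟩)
      left_inv := fun p => by simp
      right_inv := fun p => by simp }
  have eT : {h : X // σ h = h ∧ h⁻¹ * x * h ∈ Y} × {u : X // u ∈ Y ∧ (σ ^ e) u = u} ≃ T :=
    { toFun := fun p => ⟨(p.1.1, p.2.1 * (cH p.1)⁻¹), p.1.2.1,
        mul_mem p.2.2.1 (inv_mem (hcHY p.1)), by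
        show ((σ ^ e) (p.2.1 * (cH p.1)⁻¹))⁻¹ * (p.2.1 * (cH p.1)⁻¹) = _
        rw [map_mul, p.2.2.2, map_inv, mul_inv_rev, inv_inv, mul_assoc, inv_mul_cancel_left]
        have h1 := congrArg (·⁻¹) (hcH p.1)
        simp only [inv_inv, mul_inv_rev] at h1
        rw [← h1]⟩
      invFun := fun p =>
        (⟨p.1.1, p.2.1, p.2.2.2 ▸ mul_mem (inv_mem (hYe e _ p.2.2.1)) p.2.2.1⟩,
          ⟨p.1.2 * cH ⟨p.1.1, p.2.1, p.2.2.2 ▸ mul_mem (inv_mem (hYe e _ p.2.2.1)) p.2.2.1⟩,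
            mul_mem p.2.2.1 (hcHY _), by
              have h1 := hcH ⟨p.1.1, p.2.1, p.2.2.2 ▸ mul_mem (inv_mem (hYe e _ p.2.2.1)) p.2.2.1⟩
              set c := cH ⟨p.1.1, p.2.1, p.2.2.2 ▸ mul_mem (inv_mem (hYe e _ p.2.2.1)) p.2.2.1⟩
              simp only [← p.2.2.2, mul_inv_rev, inv_inv] at h1
              have h2 := congrArg (fun u => p.1.2 * u * (σ ^ e) c) h1
              simp only [mul_assoc, mul_inv_cancel_left, inv_mul_cancel, mul_one] at h2
              rw [map_mul]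
              exact h2⟩)
      left_inv := fun p => by simp
      right_inv := fun p => by simp }
  have eST : S ≃ T :=
    { toFun := fun p => ⟨(a⁻¹ * p.1.1 * p.1.2, p.1.2), by
        have hf : σ (a⁻¹ * p.1.1 * p.1.2) = a⁻¹ * p.1.1 * p.1.2 := by
          have h1 : p.1.1⁻¹ * (a * (σ a)⁻¹) * σ p.1.1 = p.1.2 * (σ p.1.2)⁻¹ :=
            (congrArg (fun u => p.1.1⁻¹ * u * σ p.1.1) ha).symm.trans p.2.2.2
          have h2 := congrArg (fun u => a⁻¹ * p.1.1 * u * σ p.1.2) h1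
          simp only [mul_assoc, inv_mul_cancel_left, inv_mul_cancel, mul_one,
            mul_inv_cancel_left] at h2
          rw [map_mul, map_mul, map_inv]
          simpa [mul_assoc] using h2
        refine ⟨hf, p.2.2.1, ?_⟩
        have h3 := pow_apply_fixed σ hf e
        rw [map_mul, map_mul, map_inv, p.2.1] at h3
        conv_rhs => arg 1; arg 1; rw [← h3]
        rw [hx]
        group⟩
      invFun := fun p => ⟨(a * p.1.1 * (p.1.2)⁻¹, p.1.2), by
        refine ⟨?_, p.2.2.1, ?_⟩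
        · show (σ ^ e) (a * p.1.1 * p.1.2⁻¹) = a * p.1.1 * p.1.2⁻¹
          rw [map_mul, map_mul, map_inv, pow_apply_fixed σ p.2.1 e]
          have h1 : ((σ ^ e) p.1.2)⁻¹ * p.1.2 = p.1.1⁻¹ * (((σ ^ e) a)⁻¹ * a) * p.1.1 := p.2.2.2
          have h2 := congrArg (fun u => (σ ^ e) a * p.1.1 * u * p.1.2⁻¹) h1
          simpa [mul_assoc] using h2
        · show (a * p.1.1 * p.1.2⁻¹)⁻¹ * g * σ (a * p.1.1 * p.1.2⁻¹) = p.1.2 * (σ p.1.2)⁻¹
          rw [ha, map_mul, map_mul, map_inv, p.2.1]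
          group⟩
      left_inv := fun p => by ext <;> simp [mul_assoc]
      right_inv := fun p => by ext <;> simp [mul_assoc] }
  rw [← Nat.card_prod, ← Nat.card_prod]
  exact Nat.card_congr ((eS.trans eST).trans eT.symm)

end CfsgLib.Shintani
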